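import Cfsg.Agent.H0.TC
set_option maxRecDepth 100000
namespace H0.TCM11p2
open H0
noncomputable def r0 : TC.WTr := (.node (.node (.node (.node (.node (.node (.leaf [1] 0 0 false) (.leaf [4, 7, 4] 14 1 false)) (.leaf [5, 1] 17 1 false)) (.node (.leaf [3, 5] 17 0 false) (.leaf [5] 4 0 false))) (.node (.node (.node (.leaf [1] 0 0 false) (.leaf [3, 1, 2] 18 3 false)) (.leaf [5] 4 0 false)) (.node (.leaf [2, 2, 2] 16 0 false) (.leaf [5, 5, 5] 8 0 true)))) (.node (.node (.node (.node (.leaf [2, 0, 2, 0, 2, 0, 2] 19 0 false) (.leaf [7] 6 0 false)) (.leaf [1, 3, 1, 3, 1, 3, 1] 19 0 true)) (.node (.leaf [3] 2 0 false) (.leaf [1, 3] 17 2 false))) (.node (.node (.node (.leaf [2, 7, 3] 18 1 false) (.leaf [5, 6, 5] 14 2 true)) (.leaf [7, 7, 4] 13 1 false)) (.node (.leaf [3] 2 0 false) (.leaf [7] 6 0 false))))) (.node (.node (.node (.node (.node (.leaf [0, 0, 0] 15 0 false) (.leaf [6, 5, 5] 13 0 true)) (.leaf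 [1, 2, 7] 18 0 false)) (.node (.leaf [1, 1, 1] 15 0 true) (.leaf [4] 4 1 false))) (.node (.node (.node (.leaf [0] 0 1 false) (.leaf [4, 6, 4] 14 3 false)) (.leaf [2, 0] 17 0 true)) (.node (.leaf [0, 4] 17 1 true) (.leaf [4] 4 1 false)))) (.node (.node (.node (.node (.leaf [1] 0 0 false) (.leaf [6] 6 1 false)) (.leaf [2] 2 1 false)) (.node (.leaf [1, 3, 0, 2, 1, 3, 0] 20 1 false) (.leaf [6, 6, 5] 13 3 true))) (.node (.node (.node (.leaf [2, 1, 2, 1, 2, 1, 2] 21 1 true) (.leaf [6] 6 1 false)) (.leaf [5] 4 0 false)) (.node (.leaf [2] 2 1 false) (.leaf [3, 0, 2] 18 0 true))))))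
noncomputable def tS : Tr := (.leaf (nat_lit 0x7f7332f8bbf610e1fee9c8b9b414599bfcebb73305a79ab3fc515635b1d71a2ffb31a2ae68ec51dff1a39366cc0153dfdbaa34649185003f975ee8f2e4a00b7f0000000187458a))
noncomputable def tJ : Tr := (.leaf (nat_lit 0x206de618a12c93818240c80c07010488011039400246200000206201001c00b6d000))
noncomputable def tQ : Tr := (.leaf (nat_lit 0x0))
noncomputable def tR : TC.WTr := r0
def hl : List ℕ := [4, 5, 5, 4, 6, 7, 7, 6]
def B : List (List ℕ) := [[0, 1], [1, 0], [2, 3], [3, 2], [4, 5], [5, 4], [6, 7], [7, 6], [4, 4, 4, 4], [6, 6, 6, 6], [4, 6, 4, 6, 4, 6, 4, 6], [4, 6, 5, 7, 4, 6, 5, 7], [4, 7, 4, 7, 4, 7, 4, 7], [4, 4, 7, 7], [4, 6, 4, 7], [0, 0, 0, 0], [2, 2, 2, 2], [1, 3, 5], [3, 1, 2, 7], [0, 2, 0, 2, 0, 2, 0, 2], [0, 2, 1, 3, 0, 2, 1, 3], [0, 3, 0, 3, 0, 3, 0, 3]]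
def subs : List (List ℕ) := [[4], [5], [6], [7]]
def ex : List (List ℕ) := []
def inv (x : ℕ) : ℕ := [1, 0, 3, 2, 5, 4, 7, 6].getD x 0
noncomputable def rS : ℕ → ℕ := rowOf tS (nat_lit 8) (nat_lit 255) (nat_lit 63) (nat_lit 9223372036854775807)
noncomputable def rJ : ℕ → ℕ := rowOf tJ (nat_lit 8) (nat_lit 255) (nat_lit 30) (nat_lit 1073741823)
noncomputable def C : TC.Cfg where
  S := look rS (nat_lit 7) (nat_lit 127)
  J := look rJ (nat_lit 3) (nat_lit 7)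
  Q := lookQ tQ (nat_lit 8) (nat_lit 1) (nat_lit 1)
  R := tR.get
  hl := fun x => hl.contains x
  n := (nat_lit 9)
  M := (nat_lit 9)
  top := (nat_lit 108)
  nl := (nat_lit 8)
  need := (nat_lit 8)
  nr := (nat_lit 5)
theorem k0 : TC.chkRange C 0 1 = true := by decide +kernel
theorem rows0 : ∀ c < (0 + 1) * 64, c < C.M → TC.chkRow C c = true :=
  TC.rows_step (TC.rows_zero C) k0
theorem main {G : Type*} [Group G] (g : ℕ → G) (hB : ∀ r ∈ B, ev g r = 1) (H : Subgroup G)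
    (hH : ∀ w ∈ subs, ev g w ∈ H) :
    H.relIndex (Subgroup.closure (g '' {x | x < 8})) ≠ 0 ∧
      H.relIndex (Subgroup.closure (g '' {x | x < 8})) ≤ 9 :=
  TC.index_le C B subs ex inv hl tR.hint rfl (by decide +kernel) (by decide +kernel)
    (TC.rows_done rows0 (by decide +kernel)) g hB H hH
end H0.TCM11p2
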